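import Groth.Agent.GmProperLib.Basic
import Groth.Agent.GrpSchLib.MultTypeBC
import Groth.Agent.LargeGrpA1.Basic
import Groth.Agent.S4599

/-!
# Homomorphisms from a torus to a proper group scheme are trivial
-/

set_option autoImplicit false
set_option backward.isDefEq.respectTransparency false
set_option linter.style.haveILetI false
universe u

open CategoryTheory CategoryTheory.Limits MonoidalCategory CartesianMonoidalCategory MonObj AlgebraicGeometry TensorProduct

noncomputable section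

namespace Groth.Agent.GmProperLib

theorem mem_map_nilradical {R : Type u} [CommRing R] {G : Type*} [CommMonoid G] [UniqueProds G]
    {y : MonoidAlgebra R G} (hy : IsNilpotent y) :
    y ∈ (nilradical R).map (algebraMap R (MonoidAlgebra R G)) := by
  have hc : ∀ m, y.coeff m ∈ nilradical R := fun m => by
    rw [nilradical_eq_sInf, Ideal.mem_sInf]
    intro P hP
    haveI : P.IsPrime := hP
    haveI : IsDomain (MonoidAlgebra (R ⧸ P) G) := NoZeroDivisors.to_isDomain _
    have h0 : MonoidAlgebra.mapRingHom G (Ideal.Quotient.mk P) y = 0 := (hy.map _).eq_zero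
    have := congrArg (fun z => z.coeff m) h0
    simp only [MonoidAlgebra.coeff_mapRingHom] at this
    exact Ideal.Quotient.eq_zero_iff_mem.1 (by simpa using this)
  rw [← MonoidAlgebra.sum_coeff_single y]
  refine Ideal.sum_mem _ fun m _ => ?_
  have : MonoidAlgebra.single m (y.coeff m) = algebraMap R (MonoidAlgebra R G) (y.coeff m) * MonoidAlgebra.single m 1 := by
    simp [MonoidAlgebra.single_mul_single]
  rw [this]
  exact Ideal.mul_mem_right _ _ (Ideal.mem_map_of_mem _ (hc m))

theorem exists_fg_le {R A : Type u} [CommRing R] [CommRing A] [Algebra R A] {I : Ideal A} (hI : I.FG) (J₀ : Ideal R)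
    (h : I ≤ J₀.map (algebraMap R A)) : ∃ J : Ideal R, J.FG ∧ J ≤ J₀ ∧ I ≤ J.map (algebraMap R A) := by
  classical
  obtain ⟨s, rfl⟩ := hI
  have h1 : ∀ x ∈ s, ∃ J : Ideal R, J.FG ∧ J ≤ J₀ ∧ x ∈ J.map (algebraMap R A) := fun x hx => by
    obtain ⟨t, ht, hxt⟩ := Submodule.mem_span_finite_of_mem_span (h (Ideal.subset_span hx))
    choose r hr hrt using fun z : t => ht z.2
    refine ⟨Ideal.span (Set.range r), Submodule.fg_span (Set.finite_range r),
      Ideal.span_le.2 (Set.range_subset_iff.2 hr), ?_⟩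
    refine Submodule.span_le.2 (fun z hz => ?_) hxt
    have := Ideal.mem_map_of_mem (algebraMap R A) (Ideal.subset_span (Set.mem_range_self (f := r) ⟨z, hz⟩))
    rwa [hrt] at this
  choose J hJ hJ0 hxJ using h1
  refine ⟨s.attach.sup fun x => J x.1 x.2, Submodule.fg_finset_sup _ _ (fun x _ => hJ _ _),
    Finset.sup_le fun x _ => hJ0 _ _, Ideal.span_le.2 fun x hx => ?_⟩
  exact Ideal.map_mono (Finset.le_sup (f := fun x : s => J x.1 x.2) (Finset.mem_attach _ ⟨x, hx⟩)) (hxJ x hx)

theorem eq_one_diag (R : Type u) [CommRing R] (r : ℕ) (X : Over (Spec (CommRingCat.of R))) [GrpObj X]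
    [IsProper X.hom] [LocallyOfFinitePresentation X.hom] (f : Red.diag R (Fin r → ℤ) ⟶ X) [IsMonHom f] :
    f = 1 := by
  haveI : UniqueSums ℤ := TwoUniqueSums.toUniqueSums ℤ
  let M := Fin r → ℤ
  let A := MonoidAlgebra R (Multiplicative M)
  let T := Red.diag R M
  let H := Red.DS (Spec (CommRingCat.of R)) M
  obtain ⟨i⟩ := GrpSchLib.AffineHopf.nonempty_DS_iso R M
  let a : T ⟶ H := i.hom.hom.hom
  haveI : IsMonHom a := i.hom.hom.isMonHom_hom
  let b : H ⟶ T := i.inv.hom.hom
  haveI : IsMonHom b := i.inv.hom.isMonHom_hom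
  have hab : a ≫ b = 𝟙 T := ((Grp.forget _).mapIso i).hom_inv_id
  let z : T.left ⟶ pullback X.hom X.hom :=
    pullback.lift f.left (1 : T ⟶ X).left ((Over.w f).trans (Over.w (1 : T ⟶ X)).symm)
  let E := pullback (pullback.diagonal X.hom) z
  let incl : E ⟶ T.left := pullback.snd _ _
  haveI : IsClosedImmersion incl := MorphismProperty.pullback_snd _ _ inferInstance
  haveI : LocallyOfFinitePresentation (pullback.diagonal X.hom) := S4599.result X.hom
  haveI : LocallyOfFinitePresentation incl := MorphismProperty.pullback_snd _ _ inferInstance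
  haveI : Surjective incl := by
    refine ⟨fun x => ?_⟩
    let L := AlgebraicClosure (T.left.residueField x)
    let p : Spec (CommRingCat.of L) ⟶ T.left :=
      Spec.map (CommRingCat.ofHom (algebraMap (T.left.residueField x) L)) ≫ T.left.fromSpecResidueField x
    let j : Spec (CommRingCat.of L) ⟶ Spec (CommRingCat.of R) := p ≫ T.hom
    have hp : p ≫ f.left = p ≫ (1 : T ⟶ X).left := by
      have h1 := (eq_one_of_field j r X (b ≫ f)).trans ((Over.pullback j).map_one).symm
      have h3 := congrArg (fun e => Over.Hom.left e ≫ pullback.fst X.hom j) h1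
      simp only [GrpLimLib.map_left_fst] at h3
      have hw : (p ≫ a.left) ≫ H.hom = 𝟙 _ ≫ j := by
        rw [Category.assoc, Category.id_comp]
        exact congrArg (p ≫ ·) (Over.w a)
      let s := pullback.lift (p ≫ a.left) (𝟙 _) hw
      have h4 : (s ≫ pullback.fst H.hom j) ≫ (b ≫ f).left = (s ≫ pullback.fst H.hom j) ≫ (1 : H ⟶ X).left := by
        rw [Category.assoc, Category.assoc, h3]
      rw [show s ≫ pullback.fst H.hom j = p ≫ a.left from pullback.lift_fst _ _ _] at h4
      have h6 : p ≫ (a ≫ b ≫ f).left = p ≫ (a ≫ (1 : H ⟶ X)).left :=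
        (Category.assoc _ _ _).symm.trans (h4.trans (Category.assoc _ _ _))
      rw [← Category.assoc a, hab, Category.id_comp, MonObj.comp_one] at h6
      exact h6
    let q : Spec (CommRingCat.of L) ⟶ E := pullback.lift (p ≫ f.left) p (by
      apply pullback.hom_ext
      · simp [z]
      · simp [z, hp])
    refine ⟨q (IsLocalRing.closedPoint L), ?_⟩
    rw [← Scheme.Hom.comp_apply, pullback.lift_snd, Scheme.Hom.comp_apply]
    exact T.left.fromSpecResidueField_apply x _
  obtain ⟨I, e, he⟩ := (IsClosedImmersion.Spec_iff (R := CommRingCat.of A) (f := incl)).1 inferInstance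
  haveI : LocallyOfFinitePresentation (Spec.map (CommRingCat.ofHom (Ideal.Quotient.mk I))) := by
    have : Spec.map (CommRingCat.ofHom (Ideal.Quotient.mk I)) = e.inv ≫ incl := by rw [he, e.inv_hom_id_assoc]
    rw [this]; infer_instance
  have hfp : (Ideal.Quotient.mk I).FinitePresentation :=
    (HasRingHomProperty.Spec_iff (P := @LocallyOfFinitePresentation) (φ := CommRingCat.ofHom (Ideal.Quotient.mk I))).1 inferInstance
  have hIfg : I.FG := by
    have hfp' : Algebra.FinitePresentation A (A ⧸ I) := hfp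
    have := Algebra.FinitePresentation.ker_fG_of_surjective (Ideal.Quotient.mkₐ A I) Ideal.Quotient.mk_surjective
    rwa [show RingHom.ker (Ideal.Quotient.mkₐ A I).toRingHom = I from Ideal.mk_ker] at this
  have hInil : I ≤ (nilradical R).map (algebraMap R A) := fun y hy => by
    refine mem_map_nilradical (mem_nilradical.1 ?_)
    rw [nilradical_eq_sInf, Ideal.mem_sInf]
    intro P hP
    obtain ⟨w, hw⟩ := incl.surjective (⟨P, hP⟩ : PrimeSpectrum A)
    rw [he, Scheme.Hom.comp_apply] at hw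
    have : I ≤ P := by
      have h2 : (PrimeSpectrum.comap (Ideal.Quotient.mk I) (e.hom w)).asIdeal = P := congrArg PrimeSpectrum.asIdeal hw
      rw [← h2]
      intro t ht
      rw [PrimeSpectrum.comap_asIdeal, Ideal.mem_comap, Ideal.Quotient.eq_zero_iff_mem.2 ht]
      exact zero_mem _
    exact this hy
  obtain ⟨J, hJfg, hJnil, hIJ⟩ := exists_fg_le hIfg _ hInil
  refine S8359.result R J (hJfg.isNilpotent_iff_le_nilradical.2 hJnil) M X f ?_
  let q := Spec.map (CommRingCat.ofHom (Ideal.Quotient.mk J))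
  show (Over.pullback q).map f = 1
  rw [← (Over.pullback q).map_one]
  apply GrpLimLib.hom_ext₁
  rw [GrpLimLib.map_left_fst, GrpLimLib.map_left_fst]
  let P := A ⊗[R] (R ⧸ J)
  let π : A →+* P := Algebra.TensorProduct.includeLeftRingHom
  have hg : pullback.fst T.hom q = (pullbackSpecIso R A (R ⧸ J)).hom ≫ Spec.map (CommRingCat.ofHom π) := by
    rw [← pullbackSpecIso_inv_fst, Iso.hom_inv_id_assoc]
    rfl
  have hπ : ∀ t ∈ I, π t = 0 := by
    intro t ht
    suffices J.map (algebraMap R A) ≤ RingHom.ker π from this (hIJ ht)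
    refine Ideal.map_le_iff_le_comap.2 fun c hc => ?_
    show algebraMap R A c ⊗ₜ[R] (1 : R ⧸ J) = 0
    rw [Algebra.algebraMap_eq_smul_one, TensorProduct.smul_tmul,
      show c • (1 : R ⧸ J) = 0 from by
        rw [← Algebra.algebraMap_eq_smul_one]; exact Ideal.Quotient.eq_zero_iff_mem.2 hc, TensorProduct.tmul_zero]
  have hfac : Spec.map (CommRingCat.ofHom π) =
      (Spec.map (CommRingCat.ofHom (Ideal.Quotient.lift I π hπ)) ≫ e.inv) ≫ incl := by
    rw [Category.assoc, he, e.inv_hom_id_assoc, ← Spec.map_comp]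
    rfl
  have hι : incl ≫ f.left = incl ≫ (1 : T ⟶ X).left := by
    have h1 := congrArg (· ≫ pullback.fst X.hom X.hom) (pullback.condition (f := pullback.diagonal X.hom) (g := z))
    have h2 := congrArg (· ≫ pullback.snd X.hom X.hom) (pullback.condition (f := pullback.diagonal X.hom) (g := z))
    simp only [z, Category.assoc, pullback.diagonal_fst, pullback.diagonal_snd, Category.comp_id,
      pullback.lift_fst, pullback.lift_snd] at h1 h2
    exact h1.symm.trans h2
  rw [hg, hfac]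
  simp only [Category.assoc, hι]

theorem eq_one_torus {S : Scheme.{u}} {T A : Over S} [GrpObj T] (hT : Red.IsTorus T) [GrpObj A] [IsProper A.hom]
    [LocallyOfFinitePresentation A.hom] (f : T ⟶ A) [IsMonHom f] : f = 1 := by
  obtain ⟨S', g, hfl, hsj, -, hloc⟩ := hT
  haveI := hfl
  haveI := hsj
  haveI : Flat (pullback.fst T.hom g) := MorphismProperty.pullback_fst _ _ inferInstance
  haveI : Surjective (pullback.fst T.hom g) := MorphismProperty.pullback_fst _ _ inferInstance
  haveI : Epi (pullback.fst T.hom g) := Flat.epi_of_flat_of_surjective _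
  have hpt : ∀ s' : S', ∃ (R : CommRingCat.{u}) (j : Spec R ⟶ S') (_ : IsOpenImmersion j),
      s' ∈ Set.range j ∧ (Over.pullback (j ≫ g)).map f = 1 := fun s' => by
    obtain ⟨U, hU, r, ⟨e⟩⟩ := hloc s'
    obtain ⟨V, hV, hsV, hVU⟩ := exists_isAffineOpen_mem_and_subset (U := U) (x := s') hU
    let l : Spec Γ(S', V) ⟶ (U : Scheme.{u}) := hV.isoSpec.inv ≫ S'.homOfLE hVU
    let j : Spec Γ(S', V) ⟶ S' := l ≫ U.ι
    have hj : j = hV.fromSpec := by
      show (hV.isoSpec.inv ≫ S'.homOfLE hVU) ≫ U.ι = _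
      rw [Category.assoc, Scheme.homOfLE_ι]
      rfl
    refine ⟨_, j, hj ▸ inferInstance, ?_, ?_⟩
    · rw [hj, hV.range_fromSpec]; exact hsV
    · obtain ⟨e₁⟩ := GrpSchLib.MultTypeBC.bc_bc l (U.ι ≫ g) T
      obtain ⟨e₂⟩ := GrpSchLib.MultTypeBC.bc_congr (show l ≫ U.ι ≫ g = j ≫ g from (Category.assoc _ _ _).symm) T
      obtain ⟨e₃⟩ := GrpSchLib.MultTypeBC.bc_iso l e
      obtain ⟨e₄⟩ := GrpSchLib.MultTypeBC.bc_DS l (Fin r → ℤ)
      obtain ⟨e₅⟩ := GrpSchLib.AffineHopf.nonempty_DS_iso Γ(S', V) (Fin r → ℤ)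
      let E := e₅ ≪≫ e₄.symm ≪≫ e₃.symm ≪≫ e₁ ≪≫ e₂
      let a : Red.diag Γ(S', V) (Fin r → ℤ) ⟶ Red.bc (j ≫ g) T := E.hom.hom.hom
      haveI : IsMonHom a := E.hom.hom.isMonHom_hom
      haveI : IsIso a := ((Grp.forget _).mapIso E).isIso_hom
      haveI : IsProper (Red.bc (j ≫ g) A).hom := MorphismProperty.pullback_snd _ _ inferInstance
      haveI : LocallyOfFinitePresentation (Red.bc (j ≫ g) A).hom := MorphismProperty.pullback_snd _ _ inferInstance
      have h := eq_one_diag Γ(S', V) r (Red.bc (j ≫ g) A) (a ≫ (Over.pullback (j ≫ g)).map f)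
      rw [← cancel_epi a, h, MonObj.comp_one]
  choose R j hj hmem h1 using hpt
  let 𝒰 : S'.OpenCover := Scheme.Cover.mkOfCovers S' (fun s => Spec (R s)) j
    (fun s => ⟨s, Set.mem_range.1 (hmem s)⟩) hj
  refine Over.OverMorphism.ext ?_
  rw [← cancel_epi (pullback.fst T.hom g)]
  refine Scheme.Cover.hom_ext (𝒰.pullback₁ (pullback.snd T.hom g)) _ _ fun m => ?_
  have h3 := congrArg (fun e => Over.Hom.left e ≫ pullback.fst A.hom (j m ≫ g))
    ((h1 m).trans ((Over.pullback (j m ≫ g)).map_one).symm)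
  simp only [GrpLimLib.map_left_fst] at h3
  let s : (𝒰.pullback₁ (pullback.snd T.hom g)).X m ⟶ pullback T.hom (j m ≫ g) :=
    pullback.lift (pullback.fst (pullback.snd T.hom g) (j m) ≫ pullback.fst T.hom g)
      (pullback.snd (pullback.snd T.hom g) (j m))
      (by rw [Category.assoc, pullback.condition, pullback.condition_assoc])
  have hs : s ≫ pullback.fst T.hom (j m ≫ g) = (𝒰.pullback₁ (pullback.snd T.hom g)).f m ≫ pullback.fst T.hom g :=
    pullback.lift_fst _ _ _
  exact ((Category.assoc _ _ _).symm.trans (congrArg (· ≫ Over.Hom.left f) hs.symm)).trans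
    ((Category.assoc _ _ _).trans ((congrArg (s ≫ ·) h3).trans ((Category.assoc _ _ _).symm.trans
      ((congrArg (· ≫ Over.Hom.left (1 : T ⟶ A)) hs).trans (Category.assoc _ _ _)))))

/-- Tori are stable under base change. -/
theorem isTorus_bc {S T : Scheme.{u}} (g : T ⟶ S) {H : Over S} [GrpObj H] (hH : Red.IsTorus H) :
    Red.IsTorus (Red.bc g H) := by
  obtain ⟨S', f, hflat, hsurj, hqc, hloc⟩ := hH
  have hcf : FpqcDescLib.Covers f :=
    FpqcDescLib.covers_of_hcov f ⟨S', f, 𝟙 _, Category.id_comp _, hsurj, hflat, hqc⟩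
  obtain ⟨Z, r, hr⟩ := hcf.pullback g (pullback.fst g f) (pullback.snd g f) (IsPullback.of_hasPullback g f)
  obtain ⟨hfl, hcov⟩ := GrpSchLib.SubgroupEqLocus.flat_hcov_of_isCovering hr
  refine ⟨Z, r ≫ pullback.fst g f, hfl, ⟨fun x => ?_⟩, hcov, fun z => ?_⟩
  · obtain ⟨V, hV, hxV, -⟩ := exists_isAffineOpen_mem_and_subset (show x ∈ (⊤ : T.Opens) from trivial)
    obtain ⟨W, -, hW⟩ := hcov V hV
    have hx : x ∈ (V : Set T) := hxV
    rw [← hW] at hx
    obtain ⟨w, -, hw⟩ := hx
    exact ⟨w, hw⟩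
  · obtain ⟨U, hzU, n, ⟨e⟩⟩ := hloc ((r ≫ pullback.snd g f) z)
    let U' : Z.Opens := (r ≫ pullback.snd g f) ⁻¹ᵁ U
    let l : (U' : Scheme.{u}) ⟶ U := (r ≫ pullback.snd g f) ∣_ U
    have hl : (U'.ι ≫ r ≫ pullback.fst g f) ≫ g = l ≫ U.ι ≫ f := by
      rw [← Category.assoc l, morphismRestrict_ι, Category.assoc, Category.assoc, Category.assoc, Category.assoc,
        pullback.condition]
    obtain ⟨e₁⟩ := GrpSchLib.MultTypeBC.bc_bc (U'.ι ≫ r ≫ pullback.fst g f) g H
    obtain ⟨e₂⟩ := GrpSchLib.MultTypeBC.bc_congr hl H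
    obtain ⟨e₃⟩ := GrpSchLib.MultTypeBC.bc_bc l (U.ι ≫ f) H
    obtain ⟨e₄⟩ := GrpSchLib.MultTypeBC.bc_iso l e
    obtain ⟨e₅⟩ := GrpSchLib.MultTypeBC.bc_DS l (Fin n → ℤ)
    exact ⟨U', hzU, n, ⟨e₁ ≪≫ e₂ ≪≫ e₃.symm ≪≫ e₄ ≪≫ e₅⟩⟩

end Groth.Agent.GmProperLib
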