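import Groth.Agent.GrpSchLib.AffToProper
import Groth.Agent.SplitTorLib.NormalSub
import Groth.Agent.GrpLimLib.Basic
import Groth.Agent.S8359
import Mathlib.RingTheory.Artinian.Module

/-! Homomorphisms from a split torus to a proper group over an Artinian ring are trivial. -/

set_option autoImplicit false
set_option backward.isDefEq.respectTransparency false
set_option linter.style.haveILetI false
universe u

open CategoryTheory CategoryTheory.Limits MonoidalCategory CartesianMonoidalCategory AlgebraicGeometry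
open scoped MonObj

namespace Groth.Agent.GmProperLib

theorem map_pullback_one {C D : Type*} [Category C] [CartesianMonoidalCategory C] [Category D]
    [CartesianMonoidalCategory D] (F : C ⥤ D) [F.Monoidal] {H X : C} [GrpObj X] :
    letI : GrpObj (F.obj X) := Functor.grpObjObj
    F.map (1 : H ⟶ X) = 1 :=
  F.map_one

theorem eq_one_of_field {K : Type u} [Field K] [IsAlgClosed K] {S : Scheme.{u}}
    (j : Spec (CommRingCat.of K) ⟶ S) (r : ℕ) (X : Over S) [GrpObj X] [IsProper X.hom]
    (f : Red.DS S (Fin r → ℤ) ⟶ X) [IsMonHom f] :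
    (Over.pullback j).map f = 1 := by
  haveI : IsAffineHom (Red.diag (ULift.{u} ℤ) (Fin r → ℤ)).hom :=
    inferInstanceAs (IsAffineHom (Spec.map (CommRingCat.ofHom (algebraMap (ULift.{u} ℤ) (MonoidAlgebra (ULift.{u} ℤ) (Multiplicative (Fin r → ℤ)))))))
  haveI : IsAffineHom (Red.DS S (Fin r → ℤ)).hom := MorphismProperty.pullback_snd _ _ inferInstance
  haveI : IsAffineHom (Red.bc j (Red.DS S (Fin r → ℤ))).hom := MorphismProperty.pullback_snd _ _ inferInstance
  haveI : IsAffine (Red.bc j (Red.DS S (Fin r → ℤ))).left :=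
    isAffine_of_isAffineHom (Red.bc j (Red.DS S (Fin r → ℤ))).hom
  haveI : Smooth (Red.bc j (Red.DS S (Fin r → ℤ))).hom :=
    MorphismProperty.pullback_snd _ _ (MultConjLib.smooth_DS_free S r)
  haveI := MultConjLib.irreducible_DS_free (U := S) r j
  haveI : IsProper (Red.bc j X).hom := MorphismProperty.pullback_snd _ _ inferInstance
  exact GrpSchLib.AffToProper.hom_eq_one _

theorem eq_one_of_isArtinian (A : Type u) [CommRing A] [IsArtinianRing A]
    (hres : ∀ (m : Ideal A) (_ : m.IsMaximal), @IsAlgClosed (A ⧸ m) (Ideal.Quotient.field m))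
    (r : ℕ) (X : Over (Spec (CommRingCat.of A))) [GrpObj X] [IsProper X.hom] [LocallyOfFinitePresentation X.hom]
    (f : Red.DS (Spec (CommRingCat.of A)) (Fin r → ℤ) ⟶ X) [IsMonHom f] : f = 1 := by
  let I := nilradical A
  let q := Spec.map (CommRingCat.ofHom (Ideal.Quotient.mk I))
  let H := Red.DS (Spec (CommRingCat.of A)) (Fin r → ℤ)
  haveI : IsReduced (A ⧸ I) :=
    (Ideal.isRadical_iff_quotient_reduced I).1 (Ideal.radical_isRadical ⊥)
  let g : ∀ m : MaximalSpectrum (A ⧸ I), (A ⧸ I) →+* (A ⧸ I) ⧸ m.asIdeal := fun m => Ideal.Quotient.mk _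
  have hg : ∀ m, g m = (Pi.evalRingHom (fun m : MaximalSpectrum (A ⧸ I) => (A ⧸ I) ⧸ m.asIdeal) m).comp
      (IsArtinianRing.equivPi (A ⧸ I)).toRingEquiv.toRingHom := fun m => rfl
  haveI : ∀ m, IsOpenImmersion (Spec.map (CommRingCat.ofHom (g m))) := fun m => by
    rw [hg, CommRingCat.ofHom_comp, Spec.map_comp]
    haveI : IsIso (Spec.map (CommRingCat.ofHom (IsArtinianRing.equivPi (A ⧸ I)).toRingEquiv.toRingHom)) :=
      inferInstanceAs (IsIso (Spec.map (IsArtinianRing.equivPi (A ⧸ I)).toRingEquiv.toCommRingCatIso.hom))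
    infer_instance
  have hone : (Over.pullback q).map f = 1 := by
    have h1 : (Over.pullback q).map (1 : H ⟶ X) = 1 := (Over.pullback q).map_one
    rw [← h1]
    apply GrpLimLib.hom_ext₁
    rw [GrpLimLib.map_left_fst, GrpLimLib.map_left_fst]
    let 𝒰 : (Spec (CommRingCat.of (A ⧸ I))).OpenCover := Scheme.Cover.mkOfCovers (MaximalSpectrum (A ⧸ I))
      (fun m => Spec (CommRingCat.of ((A ⧸ I) ⧸ m.asIdeal))) (fun m => Spec.map (CommRingCat.ofHom (g m)))
      (fun x => by
        haveI : (x : PrimeSpectrum (A ⧸ I)).asIdeal.IsMaximal := inferInstance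
        let m : MaximalSpectrum (A ⧸ I) := ⟨(x : PrimeSpectrum (A ⧸ I)).asIdeal, ‹_›⟩
        haveI : m.asIdeal.IsMaximal := m.isMaximal
        refine ⟨m, ⟨⊥, Ideal.isPrime_bot⟩, PrimeSpectrum.ext ?_⟩
        show Ideal.comap (g m) ⊥ = _
        exact Ideal.mk_ker)
      (fun m => inferInstance)
    refine Scheme.Cover.hom_ext (𝒰.pullback₁ (pullback.snd H.hom q)) _ _ fun m => ?_
    let k := Spec.map (CommRingCat.ofHom (g m)) ≫ q
    haveI : m.asIdeal.IsMaximal := m.isMaximal
    letI := Ideal.Quotient.field m.asIdeal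
    haveI : IsAlgClosed ((A ⧸ I) ⧸ m.asIdeal) := by
      let m₀ := m.asIdeal.comap (Ideal.Quotient.mk I)
      haveI : m₀.IsMaximal := Ideal.comap_isMaximal_of_surjective _ Ideal.Quotient.mk_surjective
      letI := Ideal.Quotient.field m₀
      haveI := hres m₀ inferInstance
      refine IsAlgClosed.of_ringEquiv (A ⧸ m₀) _ ((Ideal.quotEquivOfEq (show m₀ = RingHom.ker ((g m).comp (Ideal.Quotient.mk I)) from ?_)).trans
        (RingHom.quotientKerEquivOfSurjective (f := (g m).comp (Ideal.Quotient.mk I))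
          (Ideal.Quotient.mk_surjective.comp Ideal.Quotient.mk_surjective)))
      rw [← RingHom.comap_ker, Ideal.mk_ker]
    have hk1 : (Over.pullback k).map (1 : H ⟶ X) = 1 := (Over.pullback k).map_one
    have h2 := (eq_one_of_field k r X f).trans hk1.symm
    have h3 := congrArg (fun e => Over.Hom.left e ≫ pullback.fst X.hom k) h2
    simp only [GrpLimLib.map_left_fst] at h3
    let s : (𝒰.pullback₁ (pullback.snd H.hom q)).X m ⟶ pullback H.hom k :=
      pullback.lift (pullback.fst (pullback.snd H.hom q) (Spec.map (CommRingCat.ofHom (g m))) ≫ pullback.fst H.hom q)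
        (pullback.snd (pullback.snd H.hom q) (Spec.map (CommRingCat.ofHom (g m))))
        (by rw [Category.assoc, pullback.condition, pullback.condition_assoc])
    have hs : s ≫ pullback.fst H.hom k = (𝒰.pullback₁ (pullback.snd H.hom q)).f m ≫ pullback.fst H.hom q :=
      pullback.lift_fst _ _ _
    exact ((Category.assoc _ _ _).symm.trans (congrArg (· ≫ Over.Hom.left f) hs.symm)).trans
      ((Category.assoc _ _ _).trans ((congrArg (s ≫ ·) h3).trans ((Category.assoc _ _ _).symm.trans
        ((congrArg (· ≫ Over.Hom.left (1 : H ⟶ X)) hs).trans (Category.assoc _ _ _)))))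
  obtain ⟨i⟩ := GrpSchLib.AffineHopf.nonempty_DS_iso A (Fin r → ℤ)
  let a : Red.diag A (Fin r → ℤ) ⟶ H := i.hom.hom.hom
  haveI : IsMonHom a := i.hom.hom.isMonHom_hom
  have hI : IsNilpotent I := IsArtinianRing.isNilpotent_nilradical
  have h5 : a ≫ f = 1 := by
    refine S8359.result A I hI (Fin r → ℤ) X (a ≫ f) ?_
    rw [Functor.map_comp]
    exact (congrArg ((Over.pullback q).map a ≫ ·) hone).trans (MonObj.comp_one _)
  haveI : IsIso a := ((Grp.forget _).mapIso i).isIso_hom
  rw [← cancel_epi a, h5, MonObj.comp_one]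

theorem exists_bc_bc_iso {P Q Z : Scheme.{u}} (p : P ⟶ Q) (f : Q ⟶ Z) (g : P ⟶ Z) (h : p ≫ f = g)
    (X : Over Z) [GrpObj X] : ∃ a : Red.bc g X ⟶ Red.bc p (Red.bc f X), IsMonHom a ∧ IsIso a := by
  haveI : IsMonHom (GrpLimLib.cmp h X).hom := GrpLimLib.isMonHom_cmp h X
  exact ⟨(GrpLimLib.cmp h X).inv, inferInstance, inferInstance⟩

/-- The split torus of rank one is compatible with base change. -/
theorem exists_gm_bc_iso {P Q : Scheme.{u}} (p : P ⟶ Q) :
    ∃ a : Red.DS P (Fin 1 → ℤ) ⟶ Red.bc p (Red.Gm Q), IsMonHom a ∧ IsIso a := by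
  obtain ⟨i₁⟩ := SplitTorLib.exists_gm_iso P
  obtain ⟨b, hb, hb'⟩ := exists_bc_bc_iso p (Limits.IsTerminal.from specULiftZIsTerminal Q)
    (Limits.IsTerminal.from specULiftZIsTerminal P) (specULiftZIsTerminal.hom_ext _ _)
    (Red.diag (ULift.{u} ℤ) ℤ)
  haveI : IsMonHom i₁.hom.hom.hom := i₁.hom.hom.isMonHom_hom
  haveI : IsIso i₁.hom.hom.hom := ((Grp.forget _).mapIso i₁).isIso_hom
  exact ⟨i₁.hom.hom.hom ≫ b, inferInstance, inferInstance⟩

end Groth.Agent.GmProperLib
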