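import Groth.Agent.DSPtsLib.Basic
import Groth.Prelude.Def_WeilRes
import Mathlib.AlgebraicGeometry.Pullbacks

/-! Homomorphisms into a Weil restriction, transposed to the tensor product base. -/

set_option autoImplicit false
set_option backward.isDefEq.respectTransparency false
set_option backward.isDefEq.respectTransparency.types false
set_option linter.style.haveILetI false
universe u

open CategoryTheory CategoryTheory.Limits MonoidalCategory CartesianMonoidalCategory AlgebraicGeometry
open scoped MonObj TensorProduct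

namespace Groth.Agent.GmProperLib

theorem isPullback_tensor (κ Ω B : Type u) [CommRing κ] [CommRing Ω] [CommRing B] [Algebra κ Ω] [Algebra κ B] :
    IsPullback (Spec.map (CommRingCat.ofHom (Algebra.TensorProduct.includeLeftRingHom (R := κ) (A := Ω) (B := B))))
      (Spec.map (CommRingCat.ofHom (Algebra.TensorProduct.includeRight (R := κ) (A := Ω) (B := B)).toRingHom))
      (Spec.map (CommRingCat.ofHom (algebraMap κ Ω))) (Spec.map (CommRingCat.ofHom (algebraMap κ B))) :=
  isPullback_SpecMap_of_isPushout _ _ _ _ (CommRingCat.isPushout_tensorProduct κ Ω B)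

theorem theta_one {S U : Scheme.{u}} (g : U ⟶ S) {Y : Over U} {H : Over S} [GrpObj H] :
    DSPtsLib.theta g (1 : Y ⟶ Red.bc g H) = 1 :=
  mul_eq_right.mp ((DSPtsLib.theta_mul g 1 1).symm.trans (congrArg (DSPtsLib.theta g) (one_mul _)))

variable {S S₁ S₂ P : Scheme.{u}} {β : S₁ ⟶ S} {fB : S₂ ⟶ S} {p1 : P ⟶ S₁} {p2 : P ⟶ S₂}

/-- A homomorphism `G → R_{S₁}` into a Weil restriction gives one `G_P → E_P`, trivial only if it is. -/
theorem exists_transpose (sq : IsPullback p1 p2 β fB) (G : Over S₁) [GrpObj G] (E : Over S₂) [GrpObj E]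
    (R : Over S) [GrpObj R] (q : Red.bc fB R ⟶ E) [IsMonHom q] (hR : WeilRes.IsWeilRes fB E R q)
    (φ : G ⟶ Red.bc β R) [IsMonHom φ] :
    ∃ h : Red.bc p1 G ⟶ Red.bc p2 E, IsMonHom h ∧ (h = 1 → φ = 1) := by
  let x : (Over.map β).obj G ⟶ R := DSPtsLib.theta β φ
  let jT : ∀ T : Over P, (Over.map p2).obj T ⟶ Red.bc fB ((Over.map β).obj ((Over.map p1).obj T)) := fun T =>
    Over.homMk (pullback.lift (𝟙 T.left) (T.hom ≫ p2) (by
      show 𝟙 T.left ≫ (T.hom ≫ p1) ≫ β = (T.hom ≫ p2) ≫ fB
      rw [Category.id_comp, Category.assoc, Category.assoc, sq.w])) (pullback.lift_snd _ _ _)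
  let j : (Over.map p2).obj (Red.bc p1 G) ⟶ Red.bc fB ((Over.map β).obj G) :=
    Over.homMk (pullback.lift (pullback.fst G.hom p1) (pullback.snd G.hom p1 ≫ p2) (by
      show pullback.fst G.hom p1 ≫ G.hom ≫ β = _
      rw [pullback.condition_assoc, Category.assoc, sq.w])) (pullback.lift_snd _ _ _)
  let h : Red.bc p1 G ⟶ Red.bc p2 E :=
    (Over.mapPullbackAdj p2).homEquiv _ _ (j ≫ WeilRes.restr fB q _ x)
  have hh : DSPtsLib.theta p2 h = j ≫ WeilRes.restr fB q _ x := Equiv.symm_apply_apply _ _
  have key : ∀ {T : Over P} (a : T ⟶ Red.bc p1 G),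
      DSPtsLib.theta p2 (a ≫ h) = jT T ≫ WeilRes.restr fB q _ (DSPtsLib.theta β (DSPtsLib.theta p1 a ≫ φ)) := by
    intro T a
    rw [DSPtsLib.theta_comp, hh, DSPtsLib.theta_comp, WeilRes.restr_comp, ← Category.assoc, ← Category.assoc]
    congr 1
    apply Over.OverMorphism.ext
    simp only [Over.comp_left, j, jT, Over.homMk_left, Over.map_map_left, Over.pullback_map_left,
      DSPtsLib.theta_left]
    refine pullback.hom_ext ?_ ?_
    · simp only [Category.assoc, pullback.lift_fst, pullback.lift_fst_assoc]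
      exact (Category.id_comp _).symm
    · simp only [Category.assoc, pullback.lift_snd]
      exact (Category.assoc _ _ _).symm.trans (congrArg (· ≫ p2) (Over.w a))
  refine ⟨h, ?_, fun h1 => ?_⟩
  · have hmul : ∀ {T : Over P} (a b : T ⟶ Red.bc p1 G), (a * b) ≫ h = (a ≫ h) * (b ≫ h) := fun {T} a b => by
      refine (DSPtsLib.theta_bijective p2).1 ?_
      rw [DSPtsLib.theta_mul, key, key, key, DSPtsLib.theta_mul, MonObj.mul_comp, DSPtsLib.theta_mul,
        WeilRes.restr_mul, MonObj.comp_mul]
    have hm : μ[Red.bc p1 G] ≫ h = (h ⊗ₘ h) ≫ μ[Red.bc p2 E] := by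
      rw [MonObj.mul_eq_mul, hmul, Hom.mul_def]
      congr 1
    refine ⟨?_, hm⟩
    have e1 := hmul (1 : 𝟙_ (Over P) ⟶ Red.bc p1 G) 1
    rw [one_mul] at e1
    simpa [Hom.one_def, toUnit_unique (toUnit (𝟙_ (Over P))) (𝟙 _)] using mul_eq_right.mp e1.symm
  · have h2 : j ≫ WeilRes.restr fB q _ x = 1 := by rw [← hh, h1, theta_one]
    haveI : IsIso j := by
      haveI : IsIso j.left := by
        have hsq := (IsPullback.of_hasPullback G.hom p1).paste_vert sq
        have : j.left = hsq.isoPullback.hom := pullback.hom_ext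
          ((pullback.lift_fst _ _ _).trans hsq.isoPullback_hom_fst.symm)
          ((pullback.lift_snd _ _ _).trans hsq.isoPullback_hom_snd.symm)
        rw [this]; infer_instance
      haveI : IsIso ((Over.forget _).map j) := ‹IsIso j.left›
      exact isIso_of_reflects_iso j (Over.forget _)
    have h3 : WeilRes.restr fB q _ x = 1 := by
      rw [← cancel_epi j, h2, MonObj.comp_one]
    have h4 : WeilRes.restr fB q ((Over.map β).obj G) 1 = 1 := WeilRes.restr_one fB q _
    have h6 : x = 1 := (hR _).1 (h3.trans h4.symm)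
    exact (DSPtsLib.theta_bijective β).1 (h6.trans (theta_one β).symm)

end Groth.Agent.GmProperLib
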